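import Groth.Agent.Unirat.PicPower
import Groth.Agent.PicInf.PicZeroGroup
import Groth.Agent.SemiCont.Main

/-!
Classes on the product of a connected linear group and a normal variety split.
-/

set_option autoImplicit false
set_option linter.style.haveILetI false
set_option linter.unusedSectionVars false
set_option backward.isDefEq.respectTransparency false
set_option maxHeartbeats 1000000
set_option synthInstance.maxHeartbeats 400000

universe u

open CategoryTheory CategoryTheory.Limits MonoidalCategory CartesianMonoidalCategory MonObj AlgebraicGeometry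
open Groth.Agent.SubGen (rpt exists_rpt map_rpt)
open Groth.Agent.W7Cube (pull pull_pull pull_cls pullMul)
open Groth.Agent.Unirat (exists_opens_iso ratl_group exists_rp_mem_open)

noncomputable section

namespace Groth.Agent.PicAxes

attribute [local instance] W7Cube.law

variable {k : Type u} [Field k] [IsAlgClosed k] {G X : Over (Spec (CommRingCat.of k))} [GrpObj G]

/-- every class on `G × X` is a box product -/
theorem exists_box [IsAffine G.left] [Smooth G.hom] [ConnectedSpace G.left]
    [IsIntegral X.left] [LocallyOfFiniteType X.hom] [QuasiCompact X.hom]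
    (hX : Pi1.IsNormalScheme X.left) (d : PicLoc.PicSet (G ⊗ X).left) :
    ∃ (M : PicLoc.PicSet G.left) (c₀ : PicLoc.PicSet X.left),
      d = pull (fst G X).left M * pull (snd G X).left c₀ := by
  haveI : IsAffineHom G.hom := isAffineHom_of_isAffine _
  haveI : IrreducibleSpace G.left := SemiCont.irreducibleSpace_of_smooth G
  haveI : IsIntegral G.left := by
    haveI : IsReduced G.left := SmoothRed.isReduced_of_smooth_scheme G.hom
    exact isIntegral_of_irreducibleSpace_of_isReduced G.left
  haveI : IsLocallyNoetherian X.left := LocallyOfFiniteType.isLocallyNoetherian X.hom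
  haveI : CompactSpace X.left := QuasiCompact.compactSpace_of_compactSpace X.hom
  haveI : IsNoetherian X.left := ⟨⟩
  haveI : GeometricallyIntegral X.hom := PicProper.geometricallyIntegral X.hom
  let S := Spec (CommRingCat.of k)
  obtain ⟨U, n, V, e, hUne, he⟩ := exists_opens_iso (ratl_group G)
  let π : (V : Scheme.{u}) ⟶ S := V.ι ≫ (𝔸(ULift.{u} (Fin n); S) ↘ S)
  let ιU : (V : Scheme.{u}) ⟶ G.left := e.inv ≫ U.ι
  haveI : IsIso e.inv := inferInstance
  haveI : IsOpenImmersion ιU := inferInstance
  have hrange : Set.range ιU = (U : Set G.left) := by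
    rw [Scheme.Hom.comp_base, TopCat.coe_comp, Set.range_comp, Set.range_eq_univ.2 e.inv.surjective, Set.image_univ,
      Scheme.Opens.range_ι]
  have hι : ιU ≫ G.hom = π := by rw [Category.assoc, ← he, e.inv_hom_id_assoc]
  obtain ⟨q, hq⟩ := exists_rp_mem_open U hUne
  haveI : Subsingleton ↥(𝟙_ (Over S)).left := inferInstanceAs (Subsingleton (PrimeSpectrum k))
  have hqr : Set.range q.left ⊆ Set.range ιU := by
    rintro _ ⟨t, rfl⟩
    rw [hrange, SubGen.apply_eq_rpt]
    exact hq
  let u : S ⟶ (V : Scheme.{u}) := IsOpenImmersion.lift ιU q.left hqr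
  have huq : u ≫ ιU = q.left := IsOpenImmersion.lift_fac _ _ _
  have hu : u ≫ π = 𝟙 S := by
    rw [← hι, ← Category.assoc, huq]
    exact Over.w q
  -- the restriction to the open set is trivial
  let P : Over S := Over.mk (pullback.fst X.hom π ≫ X.hom)
  let pG : P ⟶ G := Over.homMk (pullback.snd X.hom π ≫ ιU) (by
    show (pullback.snd X.hom π ≫ ιU) ≫ G.hom = _
    rw [Category.assoc, hι, ← pullback.condition]
    rfl)
  let pX : P ⟶ X := Over.homMk (pullback.fst X.hom π) rfl
  let j : P ⟶ G ⊗ X := lift pG pX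
  obtain ⟨c₁, ⟨hc₁, hc₁j⟩, -⟩ := Groth.Agent.S7819.result S n V u hu X.hom hX (pull j.left d).1 (pull j.left d).2
  let c₀ : PicLoc.PicSet X.left := ⟨c₁, hc₁⟩
  obtain ⟨d', hd'⟩ : ∃ d', d' = d * (pull (snd G X).left c₀)⁻¹ := ⟨_, rfl⟩
  have hjd : pull j.left d' = 1 := by
    rw [hd', map_mul, map_inv, pull_pull, mul_inv_eq_one]
    refine Eq.trans (b := pull pX.left c₀) (Subtype.ext hc₁j.symm) ?_
    rw [show j.left ≫ (snd G X).left = pX.left from congrArg CommaMorphism.left (lift_snd pG pX)]
  -- the descent to `G`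
  obtain ⟨L, hL, hLd⟩ := PicGrp.exists_eq_cls d'
  let f : (G ⊗ X).left ⟶ G.left := pullback.fst G.hom X.hom
  haveI : Surjective X.hom := ⟨fun s => ⟨Classical.arbitrary _, Subsingleton.elim (α := PrimeSpectrum k) _ _⟩⟩
  haveI : Surjective f := inferInstance
  haveI : Flat f := inferInstance
  haveI : QuasiCompact f := inferInstance
  haveI : GeometricallyIntegral f := inferInstance
  have hΦ : ∀ ξ : G.left, GoingDown.IsMaximalPt ξ →
      Nonempty ((Scheme.Modules.pullback (f.fiberι ξ)).obj L ≅ Coh.structureModule (f.fiber ξ)) := by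
    intro ξ hξ
    have hξU : ξ ∈ U := by
      obtain ⟨x, hx⟩ := hUne
      have h1 : genericPoint G.left = ξ := hξ _ (genericPoint_specializes ξ)
      rw [← h1]
      exact (genericPoint_specializes x).mem_open U.2 hx
    have hr : Set.range (G.left.fromSpecResidueField ξ) ⊆ Set.range ιU := by
      rw [hrange, Scheme.range_fromSpecResidueField]
      exact Set.singleton_subset_iff.2 hξU
    let t := IsOpenImmersion.lift ιU (G.left.fromSpecResidueField ξ) hr
    let m : f.fiber ξ ⟶ P.left := pullback.lift (f.fiberι ξ ≫ pullback.snd G.hom X.hom)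
      (pullback.snd f (G.left.fromSpecResidueField ξ) ≫ t) (by
      rw [Category.assoc, Category.assoc, ← hι, IsOpenImmersion.lift_fac_assoc, ← pullback.condition]
      rw [← Category.assoc (pullback.snd f _), ← pullback.condition, Category.assoc]
      rfl)
    have hm : m ≫ j.left = f.fiberι ξ := by
      refine pullback.hom_ext ?_ ?_
      · rw [Category.assoc, show j.left ≫ pullback.fst G.hom X.hom = pG.left from
          congrArg CommaMorphism.left (lift_fst pG pX)]
        show pullback.lift _ _ _ ≫ pullback.snd X.hom π ≫ ιU = _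
        rw [pullback.lift_snd_assoc, Category.assoc, IsOpenImmersion.lift_fac]
        exact pullback.condition.symm
      · rw [Category.assoc, show j.left ≫ pullback.snd G.hom X.hom = pX.left from
          congrArg CommaMorphism.left (lift_snd pG pX)]
        exact pullback.lift_fst _ _ _
    have h2 : pull (f.fiberι ξ) d' = 1 := by
      rw [← hm, ← pull_pull, hjd, map_one]
    rw [hLd, pull_cls, PicGrp.cls_eq_one_iff] at h2
    exact h2
  haveI : IsLocallyNoetherian (G ⊗ X).left := by
    haveI : LocallyOfFiniteType (G ⊗ X).hom := inferInstanceAs (LocallyOfFiniteType (pullback.fst G.hom X.hom ≫ G.hom))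
    exact LocallyOfFiniteType.isLocallyNoetherian (G ⊗ X).hom
  haveI : IsLocallyNoetherian G.left := LocallyOfFiniteType.isLocallyNoetherian G.hom
  obtain ⟨M, hM, ⟨eM⟩⟩ := DivDescMod.exists_invertible (f := f) (Or.inl inferInstance) Chev.isNormal
    (fun y _ => inferInstance) hL (fun ξ hξ => (hΦ ξ hξ).some)
  refine ⟨PicGrp.cls M hM, c₀, ?_⟩
  have h4 : pull (fst G X).left (PicGrp.cls M hM) = d' := by
    rw [hLd, pull_cls]
    exact (PicGrp.cls_eq_cls_iff _ _).2 ⟨eM⟩
  rw [h4, hd', inv_mul_cancel_right]

/-- **trivial on the axes implies trivial** -/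
theorem eq_one_of_axes {Q : Over (Spec (CommRingCat.of k))} [GrpObj Q] [IsAffine G.left] [Smooth G.hom]
    [ConnectedSpace G.left] [Smooth Q.hom] [QuasiCompact Q.hom] [ConnectedSpace Q.left]
    (eG : 𝟙_ (Over (Spec (CommRingCat.of k))) ⟶ G) (eQ : 𝟙_ (Over (Spec (CommRingCat.of k))) ⟶ Q)
    (d : PicLoc.PicSet (G ⊗ Q).left) (hG : pull (lift (𝟙 G) (toUnit G ≫ eQ)).left d = 1)
    (hQ : pull (lift (toUnit Q ≫ eG) (𝟙 Q)).left d = 1) : d = 1 := by
  haveI : IrreducibleSpace Q.left := SemiCont.irreducibleSpace_of_smooth Q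
  haveI : IsReduced Q.left := SmoothRed.isReduced_of_smooth_scheme Q.hom
  haveI : IsIntegral Q.left := isIntegral_of_irreducibleSpace_of_isReduced Q.left
  obtain ⟨M, c₀, rfl⟩ := exists_box (G := G) (X := Q) Chev.isNormal d
  have hpt : ∀ {Y Z : Over (Spec (CommRingCat.of k))} (e : 𝟙_ (Over (Spec (CommRingCat.of k))) ⟶ Z)
      (c : PicLoc.PicSet Z.left), pull (toUnit Y ≫ e).left c = 1 := fun e c => by
    rw [Over.comp_left, ← pull_pull,
      show pull e.left c = 1 from PicInf.PicZeroGroup.picSet_point (K := k) (pull e.left c), map_one]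
  have hid : ∀ {Y : Scheme.{u}} (c : PicLoc.PicSet Y), pull (𝟙 Y) c = c := fun c => by
    obtain ⟨N, hN, rfl⟩ := PicGrp.exists_eq_cls c
    exact Subtype.ext (Quot.sound ⟨(Scheme.Modules.pullbackId _).app N⟩)
  rw [map_mul, pull_pull, pull_pull, ← Over.comp_left, ← Over.comp_left, lift_fst, lift_snd, hpt, Over.id_left, hid,
    _root_.mul_one] at hG
  rw [map_mul, pull_pull, pull_pull, ← Over.comp_left, ← Over.comp_left, lift_fst, lift_snd, hpt, Over.id_left, hid,
    _root_.one_mul] at hQ
  rw [hG, hQ, map_one, map_one, _root_.one_mul]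

end Groth.Agent.PicAxes
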