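import Mathlib

/-!
Functions on a base change are determined by a jointly injective family of coefficient maps.
-/

set_option autoImplicit false
set_option backward.isDefEq.respectTransparency false
set_option backward.isDefEq.respectTransparency.types false
set_option linter.style.haveILetI false
set_option maxHeartbeats 1000000

universe u

open CategoryTheory CategoryTheory.Limits AlgebraicGeometry TopologicalSpace Opposite
open scoped TensorProduct

noncomputable section

namespace Groth.Agent.PicAxes

theorem tensor_eq_zero_of_family {k R A : Type u} [Field k] [CommRing R] [Algebra k R] [CommRing A] [Algebra k A]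
    {ι : Type*} {B : ι → Type u} [∀ i, CommRing (B i)] [∀ i, Algebra k (B i)] (ψ : ∀ i, A →ₐ[k] B i)
    (hψ : ∀ a : A, (∀ i, ψ i a = 0) → a = 0) (x : R ⊗[k] A)
    (hx : ∀ i, Algebra.TensorProduct.map (AlgHom.id k R) (ψ i) x = 0) : x = 0 := by
  let b := Module.Free.chooseBasis k R
  apply (TensorProduct.equivFinsuppOfBasisLeft (N := A) b).injective
  rw [map_zero]
  ext j
  refine hψ _ fun i => ?_
  have key : ∀ y : R ⊗[k] A, TensorProduct.equivFinsuppOfBasisLeft (N := B i) b
      (Algebra.TensorProduct.map (AlgHom.id k R) (ψ i) y) j =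
      ψ i (TensorProduct.equivFinsuppOfBasisLeft (N := A) b y j) := by
    intro y
    induction y using TensorProduct.induction_on with
    | zero => simp
    | tmul r a => simp [TensorProduct.equivFinsuppOfBasisLeft_apply_tmul_apply]
    | add y z hy hz => simp [map_add, hy, hz]
  rw [← key x, hx i]
  simp

/-- the maps `a ⊗ b ↦ a * σ b` are jointly injective -/
theorem galois_pairs_injective (k K : Type u) [Field k] [Field K] [Algebra k K] [IsGalois k K] (z : K ⊗[k] K)
    (hz : ∀ σ : K ≃ₐ[k] K, Algebra.TensorProduct.lift (AlgHom.id k K) σ.toAlgHom (fun a b => Commute.all _ _) z = 0) :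
    z = 0 := by
  classical
  let c := Module.Free.chooseBasis k K
  obtain ⟨l, hl⟩ : ∃ l, l = TensorProduct.equivFinsuppOfBasisRight (M := K) c z := ⟨_, rfl⟩
  have hzl : z = l.sum fun i a => a ⊗ₜ[k] c i := by
    rw [← TensorProduct.equivFinsuppOfBasisRight_symm_apply, hl, LinearEquiv.symm_apply_apply]
  suffices ∀ i ∈ l.support, l i = 0 by
    have : l = 0 := Finsupp.ext fun i => by
      by_contra h
      exact h (this i (Finsupp.mem_support_iff.2 h))
    rw [hzl, this, Finsupp.sum_zero_index]
  have hind : LinearIndepOn (FixedPoints.subfield (K ≃ₐ[k] K) K) id ((l.support.image c : Finset K) : Set K) := by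
    rw [LinearIndepOn, linearIndependent_iff']
    intro s g hg
    have hfix : ∀ x : ↥((l.support.image c : Finset K) : Set K), ∃ t : k, algebraMap k K t = (g x : K) := fun x =>
      (InfiniteGalois.mem_range_algebraMap_iff_fixed _).2 fun σ => (g x).2 σ
    choose t ht using hfix
    have hc : LinearIndependent k ((↑) : ↥((l.support.image c : Finset K) : Set K) → K) :=
      c.linearIndependent.linearIndepOn_id.mono fun x hx => by
        obtain ⟨i, -, rfl⟩ := Finset.mem_image.1 hx
        exact ⟨i, rfl⟩
    have h0 : ∑ x ∈ s, t x • (x : K) = 0 := by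
      rw [← hg]
      refine Finset.sum_congr rfl fun x _ => ?_
      rw [Algebra.smul_def, ht]
      rfl
    intro x hx
    have h := linearIndependent_iff'.1 hc s t h0 x hx
    exact Subtype.ext (by rw [← ht x, h, map_zero]; rfl)
  have hK := FixedPoints.linearIndependent_smul_of_linearIndependent (K ≃ₐ[k] K) K hind
  have hK' := (linearIndepOn_finset_iffₛ.1 hK (fun y => ∑ i ∈ l.support with c i = y, l i) 0 (funext fun σ => ?_))
  · intro i hi
    have h := hK' (c i) (Finset.mem_image_of_mem _ hi)
    simp only [Pi.zero_apply] at h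
    rwa [Finset.sum_filter, Finset.sum_eq_single_of_mem i hi
      (fun j _ hj => if_neg fun e => hj (c.injective e)), if_pos rfl] at h
  · have h := hz σ
    rw [hzl, Finsupp.sum, map_sum] at h
    simp only [Algebra.TensorProduct.lift_tmul, AlgHom.id_apply] at h
    simp only [Pi.zero_apply, zero_smul, Finset.sum_const_zero, Finset.sum_apply, Pi.smul_apply, smul_eq_mul,
      MulAction.toFun_apply, Finset.sum_mul]
    rw [← h]
    rw [← Finset.sum_fiberwise_of_maps_to (s := l.support) (t := l.support.image c) (g := fun i => c i)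
      (fun i hi => Finset.mem_image_of_mem _ hi)]
    refine Finset.sum_congr rfl fun y _ => Finset.sum_congr rfl fun i hi => ?_
    rw [(Finset.mem_filter.1 hi).2]
    rfl

/-- functions on a base change vanish when their restrictions along a jointly injective family vanish -/
theorem appTop_eq_zero_of_family {k A : Type u} [Field k] [CommRing A] [Algebra k A] {Z W : Scheme.{u}}
    {ρ : Z ⟶ Spec (CommRingCat.of k)} {h : W ⟶ Z} {q : W ⟶ Spec (CommRingCat.of A)}
    (hW : IsPullback h q ρ (Spec.map (CommRingCat.ofHom (algebraMap k A))))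
    {ι : Type*} {B : ι → Type u} [∀ i, CommRing (B i)] [∀ i, Algebra k (B i)] (ψ : ∀ i, A →ₐ[k] B i)
    (hψ : ∀ a : A, (∀ i, ψ i a = 0) → a = 0) {T : ι → Scheme.{u}} (t : ∀ i, T i ⟶ W)
    {qT : ∀ i, T i ⟶ Spec (CommRingCat.of (B i))}
    (hT : ∀ i, IsPullback (t i ≫ h) (qT i) ρ (Spec.map (CommRingCat.ofHom (algebraMap k (B i)))))
    (hq : ∀ i, t i ≫ q = qT i ≫ Spec.map (CommRingCat.ofHom (ψ i).toRingHom))
    (a : Γ(W, ⊤)) (ha : ∀ i, (t i).appTop a = 0) : a = 0 := by
  refine W.sheaf.eq_of_locally_eq' (fun D : Z.affineOpens => h ⁻¹ᵁ D.1) ⊤ (fun D => homOfLE le_top) (fun w _ => ?_)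
    _ _ fun D => ?_
  · obtain ⟨_, ⟨V, hV, rfl⟩, hwV, -⟩ := Z.isBasis_affineOpens.exists_subset_of_mem_open (Set.mem_univ (h w)) isOpen_univ
    exact Opens.mem_iSup.2 ⟨⟨V, hV⟩, hwV⟩
  · obtain ⟨D, hD⟩ := D
    let R := Γ(Z, D)
    let χ : CommRingCat.of k ⟶ R := Spec.preimage (hD.fromSpec ≫ ρ)
    letI : Algebra k R := χ.hom.toAlgebra
    have hχ : hD.fromSpec ≫ ρ = Spec.map (CommRingCat.ofHom (algebraMap k R)) := (Spec.map_preimage _).symm
    have sqD : IsPullback (pullback.fst hD.fromSpec h) (pullback.snd hD.fromSpec h ≫ q) (hD.fromSpec ≫ ρ)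
        (Spec.map (CommRingCat.ofHom (algebraMap k A))) :=
      (IsPullback.of_hasPullback hD.fromSpec h).paste_vert hW
    let e : pullback hD.fromSpec h ≅ Spec (CommRingCat.of (R ⊗[k] A)) :=
      sqD.isoPullback ≪≫ pullback.congrHom hχ rfl ≪≫ pullbackSpecIso k R A
    let jD : Spec (CommRingCat.of (R ⊗[k] A)) ⟶ W := e.inv ≫ pullback.snd hD.fromSpec h
    haveI : IsOpenImmersion jD := inferInstanceAs (IsOpenImmersion (e.inv ≫ pullback.snd hD.fromSpec h))
    have hjh : jD ≫ h = Spec.map (CommRingCat.ofHom Algebra.TensorProduct.includeLeftRingHom) ≫ hD.fromSpec := by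
      rw [← pullbackSpecIso_inv_fst k R A]
      simp [jD, e, ← pullback.condition]
    have hjq : jD ≫ q =
        Spec.map (CommRingCat.ofHom (Algebra.TensorProduct.includeRight : A →ₐ[k] R ⊗[k] A).toRingHom) := by
      refine Eq.trans ?_ (pullbackSpecIso_inv_snd k R A)
      simp [jD, e]
    have hrange : h ⁻¹ᵁ D ≤ jD.opensRange := by
      intro w hw
      have hw' : w ∈ Set.range (pullback.snd hD.fromSpec h) := by
        rw [IsOpenImmersion.range_pullbackSnd]
        show h w ∈ Set.range hD.fromSpec
        rw [IsAffineOpen.range_fromSpec]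
        exact hw
      obtain ⟨v, hv⟩ := hw'
      refine ⟨e.hom v, ?_⟩
      rw [← hv]
      refine (Scheme.Hom.comp_apply e.hom jD v).symm.trans ?_
      rw [show e.hom ≫ jD = pullback.snd hD.fromSpec h from e.hom_inv_id_assoc _]
    have hj : jD.appTop a = 0 := by
      apply (ConcreteCategory.bijective_of_isIso (Scheme.ΓSpecIso (CommRingCat.of (R ⊗[k] A))).hom).1
      rw [map_zero]
      refine tensor_eq_zero_of_family ψ hψ _ fun i => ?_
      let m : R ⊗[k] A →ₐ[k] R ⊗[k] B i := Algebra.TensorProduct.map (AlgHom.id k R) (ψ i)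
      let ei : Spec (CommRingCat.of (R ⊗[k] B i)) ⟶ T i :=
        (hT i).lift ((pullbackSpecIso k R (B i)).inv ≫ pullback.fst _ _ ≫ hD.fromSpec)
          ((pullbackSpecIso k R (B i)).inv ≫ pullback.snd _ _)
          (by rw [Category.assoc, Category.assoc, Category.assoc, hχ, pullback.condition])
      have hei : ei ≫ t i = Spec.map (CommRingCat.ofHom m.toRingHom) ≫ jD := by
        refine hW.hom_ext ?_ ?_
        · rw [Category.assoc, Category.assoc, hjh, IsPullback.lift_fst, pullbackSpecIso_inv_fst_assoc,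
            ← Category.assoc, ← Spec.map_comp]
          congr 2
          ext r
          simp [m]
        · rw [Category.assoc, Category.assoc, hjq, hq, IsPullback.lift_snd_assoc, pullbackSpecIso_inv_snd,
            ← Spec.map_comp, ← Spec.map_comp]
          congr 1
      change m ((Scheme.ΓSpecIso (CommRingCat.of (R ⊗[k] A))).hom (jD.appTop a)) = 0
      have h1 := congrArg (fun f => (Scheme.Hom.appTop f) a) hei
      simp only [Scheme.Hom.comp_appTop, CommRingCat.comp_apply, ha i, map_zero] at h1
      have h2 := congrArg (fun f => f (jD.appTop a)) (Scheme.ΓSpecIso_naturality (CommRingCat.ofHom m.toRingHom))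
      simp only [CommRingCat.comp_apply] at h2
      refine h2.symm.trans ?_
      rw [CommRingCat.comp_apply, ← h1, map_zero]
    change (W.presheaf.map (homOfLE (le_top : h ⁻¹ᵁ D ≤ ⊤)).op) a = (W.presheaf.map (homOfLE le_top).op) 0
    rw [map_zero]
    have hsub : h ⁻¹ᵁ D ≤ jD ''ᵁ ⊤ := hrange.trans (Scheme.Hom.image_top_eq_opensRange jD).ge
    have h3 : W.presheaf.map (homOfLE (le_top : jD ''ᵁ ⊤ ≤ ⊤)).op a = 0 := by
      apply (ConcreteCategory.bijective_of_isIso (jD.appIso ⊤).hom).1
      rw [map_zero, ← hj]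
      have e1 : W.presheaf.map (homOfLE (le_top : jD ''ᵁ ⊤ ≤ ⊤)).op ≫ (jD.appIso ⊤).hom = jD.appTop := by
        rw [Scheme.Hom.appIso_hom', Scheme.Hom.map_appLE]
        exact (Scheme.Hom.app_eq_appLE jD).symm
      rw [← CommRingCat.comp_apply, e1]
    have h4 := congrArg (W.presheaf.map (homOfLE hsub).op) h3
    rw [map_zero, ← CommRingCat.comp_apply, ← Functor.map_comp] at h4
    exact h4

end Groth.Agent.PicAxes
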