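import Groth.Agent.PicAxes.Box
import Groth.Agent.PicAxes.GalExt
import Groth.Agent.ThetaLib.HomDesc
import Groth.Agent.ThetaLib.Frame
import Groth.Agent.ThetaLib.Represent
import Groth.Agent.AxesUnit.Basic
import Groth.Agent.PicFam.Separated

/-!
Invertible modules on a product of commutative groups trivial on the axes, over a perfect field.
-/

set_option autoImplicit false
set_option linter.style.haveILetI false
set_option linter.unusedSectionVars false
set_option backward.isDefEq.respectTransparency false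
set_option backward.isDefEq.respectTransparency.types false
set_option maxHeartbeats 1000000

universe u

open CategoryTheory CategoryTheory.Limits MonoidalCategory CartesianMonoidalCategory MonObj AlgebraicGeometry
open TopologicalSpace
open Groth.Agent.W7Cube (pull pull_pull pull_cls)
open Groth.Agent.ThetaLib
open scoped TensorProduct

noncomputable section

namespace Groth.Agent.PicAxes

attribute [local instance] W7Cube.law

section Frames

variable {W : Obj.{u}} {T T' : Scheme.{u}}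

/-- a frame times a unit -/
def actF (a : Γ(T, ⊤)ˣ) (c : Frame W T) : Frame W T :=
  ⟨act (X := uObj T) (a : Γ(T, ⊤)) c.1, by
    haveI : IsIso (LBDesc.smulMor (md (uObj T)) (a : Γ(T, ⊤))) :=
      ⟨⟨LBDesc.smulMor (md (uObj T)) ((a⁻¹ : Γ(T, ⊤)ˣ) : Γ(T, ⊤)),
        (smulMor_mul (md (uObj T)) _ _).symm.trans ((congrArg _ a.mul_inv).trans (smulMor_one _)),
        (smulMor_mul (md (uObj T)) _ _).symm.trans ((congrArg _ a.inv_mul).trans (smulMor_one _))⟩⟩
    haveI := c.2
    exact inferInstanceAs (IsIso (LBDesc.smulMor (md (uObj T)) (a : Γ(T, ⊤)) ≫ fib c.1))⟩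

theorem actF_base (a : Γ(T, ⊤)ˣ) (c : Frame W T) : (actF a c).1.base = c.1.base := rfl

theorem actF_one (c : Frame W T) : actF 1 c = c := Subtype.ext (act_one (X := uObj T) c.1)

theorem actF_inj {a b : Γ(T, ⊤)ˣ} {c : Frame W T} (h : actF a c = actF b c) : a = b := by
  haveI := c.2
  exact Units.ext (act_injective (X := uObj T) (PicLoc.isInvertible_structureModule T) c.1 (congrArg Subtype.val h))

theorem exists_actF (c c' : Frame W T) (h : c'.1.base = c.1.base) : ∃ a : Γ(T, ⊤)ˣ, c' = actF a c := by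
  haveI := c.2
  obtain ⟨a, ha⟩ := exists_eq_act (X := uObj T) (PicLoc.isInvertible_structureModule T) c'.1 c.1 h
  have h' : IsIso (LBDesc.smulMor (md (uObj T)) a ≫ fib c.1) := by
    have := c'.2
    rw [ha] at this
    exact this
  haveI : IsIso (LBDesc.smulMor (md (uObj T)) a) := IsIso.of_isIso_comp_right _ (fib c.1)
  exact ⟨(isUnit_of_isIso_smulMor (PicLoc.isInvertible_structureModule T) (a := a)).unit, Subtype.ext ha⟩

theorem pull_actF (g : T' ⟶ T) (a : Γ(T, ⊤)ˣ) (c : Frame W T) :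
    (actF a c).pull g = actF (Units.map g.appTop.hom.toMonoidHom a) (c.pull g) :=
  Subtype.ext (comp_act (X := uObj T') (Y := uObj T) (uMap g) (a : Γ(T, ⊤)) c.1)

theorem exists_frame_of_iso {L : W.base.Modules} (hLW : md W = L) (b : T ⟶ W.base)
    (i : (Scheme.Modules.pullback b).obj L ≅ Coh.structureModule T) : ∃ c : Frame W T, c.1.base = b := by
  subst hLW
  exact ⟨⟨mk' (X := uObj T) b i.inv, inferInstanceAs (IsIso i.inv)⟩, rfl⟩

end Frames

section Points

variable {K : Type u} [Field K] [IsAlgClosed K] {X Y : Over (Spec (CommRingCat.of K))}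

theorem unit_eq_one_of_points {T : Over (Spec (CommRingCat.of K))} [LocallyOfFiniteType T.hom] [IsReduced T.left]
    (a : Γ(T.left, ⊤)ˣ) (h : ∀ z : 𝟙_ (Over (Spec (CommRingCat.of K))) ⟶ T,
      Units.map z.left.appTop.hom.toMonoidHom a = 1) : a = 1 := by
  apply Units.ext
  rw [Units.val_one, ← sub_eq_zero, ← basicOpen_eq_bot_iff]
  by_contra hne
  obtain ⟨z0, hz0⟩ : ((T.left.basicOpen ((a : Γ(T.left, ⊤)) - 1)) : Set T.left).Nonempty :=
    Set.nonempty_iff_ne_empty.2 fun e => hne (Opens.ext e)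
  haveI : JacobsonSpace T.left := LocallyOfFiniteType.jacobsonSpace T.hom
  obtain ⟨z, hzU, hzc⟩ := nonempty_inter_closedPoints ⟨z0, hz0⟩ (T.left.basicOpen ((a : Γ(T.left, ⊤)) - 1)).isOpen.isLocallyClosed
  let p : 𝟙_ (Over (Spec (CommRingCat.of K))) ⟶ T := AxesUnit.pt T ⟨z, hzc⟩
  have hmem : (IsLocalRing.closedPoint K : ↥(Spec (CommRingCat.of K))) ∈
      (p.left : Spec (CommRingCat.of K) ⟶ T.left) ⁻¹ᵁ T.left.basicOpen ((a : Γ(T.left, ⊤)) - 1) := by
    change pointOfClosedPoint T.hom z hzc (IsLocalRing.closedPoint K) ∈ T.left.basicOpen ((a : Γ(T.left, ⊤)) - 1)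
    rw [pointOfClosedPoint_apply]
    exact hzU
  have h1 : p.left.appTop (a : Γ(T.left, ⊤)) = 1 := congrArg Units.val (h p)
  rw [Scheme.preimage_basicOpen_top, map_sub, h1, map_one, sub_self, Scheme.basicOpen_zero] at hmem
  exact hmem

/-- units trivial on both axes are trivial -/
theorem unit_eq_one_of_axes [LocallyOfFiniteType X.hom] [LocallyOfFiniteType Y.hom] [QuasiCompact X.hom]
    [QuasiCompact Y.hom] [ConnectedSpace X.left] [ConnectedSpace Y.left] [IsReduced (X ⊗ Y).left]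
    (eX : 𝟙_ (Over (Spec (CommRingCat.of K))) ⟶ X) (eY : 𝟙_ (Over (Spec (CommRingCat.of K))) ⟶ Y)
    (a : Γ((X ⊗ Y).left, ⊤)ˣ)
    (hX : Units.map (lift (𝟙 X) (toUnit X ≫ eY)).left.appTop.hom.toMonoidHom a = 1)
    (hY : Units.map (lift (toUnit Y ≫ eX) (𝟙 Y)).left.appTop.hom.toMonoidHom a = 1) : a = 1 := by
  haveI : IsLocallyNoetherian X.left := LocallyOfFiniteType.isLocallyNoetherian X.hom
  haveI : IsLocallyNoetherian Y.left := LocallyOfFiniteType.isLocallyNoetherian Y.hom
  haveI : CompactSpace X.left := QuasiCompact.compactSpace_of_compactSpace X.hom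
  haveI : CompactSpace Y.left := QuasiCompact.compactSpace_of_compactSpace Y.hom
  haveI : IsNoetherian X.left := {}
  haveI : IsNoetherian Y.left := {}
  haveI : LocallyOfFiniteType (X ⊗ Y).hom :=
    inferInstanceAs (LocallyOfFiniteType (pullback.fst X.hom Y.hom ≫ X.hom))
  refine unit_eq_one_of_points a fun z => ?_
  obtain ⟨x, y, rfl⟩ : ∃ x y, z = lift x y :=
    ⟨z ≫ fst X Y, z ≫ snd X Y, CartesianMonoidalCategory.hom_ext _ _ (by simp) (by simp)⟩
  refine AxesUnit.val_eq_one a eX eY (fun x => ?_) (fun y => ?_) x y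
  · rw [AxesUnit.val, show lift x eY = x ≫ lift (𝟙 X) (toUnit X ≫ eY) by
      rw [comp_lift, Category.comp_id, ← Category.assoc, toUnit_unique (x ≫ toUnit X) (𝟙 _), Category.id_comp],
      Over.comp_left, Scheme.Hom.comp_appTop]
    change Units.map x.left.appTop.hom.toMonoidHom (Units.map (lift (𝟙 X) (toUnit X ≫ eY)).left.appTop.hom.toMonoidHom a) = 1
    rw [hX, map_one]
  · rw [AxesUnit.val, show lift eX y = y ≫ lift (toUnit Y ≫ eX) (𝟙 Y) by
      rw [comp_lift, Category.comp_id, ← Category.assoc, toUnit_unique (y ≫ toUnit Y) (𝟙 _), Category.id_comp],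
      Over.comp_left, Scheme.Hom.comp_appTop]
    change Units.map y.left.appTop.hom.toMonoidHom (Units.map (lift (toUnit Y ≫ eX) (𝟙 Y)).left.appTop.hom.toMonoidHom a) = 1
    rw [hY, map_one]

end Points

variable {k : Type u} [Field k]

/-- **trivial on the axes implies trivial**, over a perfect field -/
theorem trivial_of_axes [PerfectField k] (P Q : Over (Spec (CommRingCat.of k))) [GrpObj P] [GrpObj Q]
    [IsAffine P.left] [Smooth P.hom] [ConnectedSpace P.left]
    [Smooth Q.hom] [QuasiCompact Q.hom] [ConnectedSpace Q.left]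
    (L : (P ⊗ Q).left.Modules) (hL : PicF.IsInvertible L)
    (hP : PicF.IsTrivialCl (PicF.pullCl (lift (𝟙 P) (toUnit P ≫ η[Q])).left (PicF.cl L)))
    (hQ : PicF.IsTrivialCl (PicF.pullCl (lift (toUnit Q ≫ η[P]) (𝟙 Q)).left (PicF.cl L))) :
    PicF.IsTrivialCl (PicF.cl L) := by
  let S := Spec (CommRingCat.of k)
  let K := AlgebraicClosure k
  haveI : IsGalois k K := ⟨⟩
  let u : Spec (CommRingCat.of K) ⟶ S := Spec.map (CommRingCat.ofHom (algebraMap k K))
  haveI : Surjective u := ⟨fun y => ⟨⟨⊥, Ideal.isPrime_bot⟩, Subsingleton.elim (α := PrimeSpectrum k) _ _⟩⟩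
  let P' : Over (Spec (CommRingCat.of K)) := (Over.pullback u).obj P
  let Q' : Over (Spec (CommRingCat.of K)) := (Over.pullback u).obj Q
  letI : GrpObj P' := Functor.grpObjObj (F := Over.pullback u)
  letI : GrpObj Q' := Functor.grpObjObj (F := Over.pullback u)
  let rP : P'.left ⟶ P.left := pullback.fst P.hom u
  let rQ : Q'.left ⟶ Q.left := pullback.fst Q.hom u
  haveI : Smooth P'.hom := inferInstanceAs (Smooth (pullback.snd P.hom u))
  haveI : Smooth Q'.hom := inferInstanceAs (Smooth (pullback.snd Q.hom u))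
  haveI : QuasiCompact Q'.hom := inferInstanceAs (QuasiCompact (pullback.snd Q.hom u))
  haveI : IsAffine P'.left := inferInstanceAs (IsAffine (pullback P.hom u))
  haveI : QuasiCompact P'.hom := by
    haveI : IsAffineHom P'.hom := isAffineHom_of_isAffine _
    infer_instance
  haveI : ConnectedSpace P'.left := by
    haveI := Chev.geometricallyIntegral_of_group (A := P)
    haveI : IsIntegral P'.left := GeometricallyIntegral.geometrically_isIntegral (f := P.hom) (K := K) u
      (pullback.fst P.hom u) (pullback.snd P.hom u) (IsPullback.of_hasPullback _ _)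
    infer_instance
  haveI : ConnectedSpace Q'.left := by
    haveI := Chev.geometricallyIntegral_of_group (A := Q)
    haveI : IsIntegral Q'.left := GeometricallyIntegral.geometrically_isIntegral (f := Q.hom) (K := K) u
      (pullback.fst Q.hom u) (pullback.snd Q.hom u) (IsPullback.of_hasPullback _ _)
    infer_instance
  haveI : Smooth (P' ⊗ Q').hom := inferInstanceAs (Smooth (pullback.fst P'.hom Q'.hom ≫ P'.hom))
  haveI : IsReduced (P' ⊗ Q').left := SmoothRed.isReduced_of_smooth_scheme (P' ⊗ Q').hom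
  let Z := (P ⊗ Q).left
  let ρ := (P ⊗ Q).hom
  let Z' := (P' ⊗ Q').left
  let h' : Z' ⟶ Spec (CommRingCat.of K) := (P' ⊗ Q').hom
  let Φ : Z' ⟶ Z := pullback.lift ((fst P' Q').left ≫ rP) ((snd P' Q').left ≫ rQ) (by
    rw [Category.assoc, Category.assoc, pullback.condition, pullback.condition, ← Category.assoc, ← Category.assoc]
    exact congrArg (· ≫ u) ((Over.w (fst P' Q')).trans (Over.w (snd P' Q')).symm))
  have hΦ1 : Φ ≫ (fst P Q).left = (fst P' Q').left ≫ rP := pullback.lift_fst _ _ _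
  have hΦ2 : Φ ≫ (snd P Q).left = (snd P' Q').left ≫ rQ := pullback.lift_snd _ _ _
  have hsqP : IsPullback rP P'.hom P.hom u := IsPullback.of_hasPullback _ _
  have hsqQ : IsPullback rQ Q'.hom Q.hom u := IsPullback.of_hasPullback _ _
  have hsq : IsPullback Φ h' ρ u := by
    have h0 : IsPullback ((snd P' Q').left ≫ rQ) (fst P' Q').left Q.hom (P'.hom ≫ u) :=
      (IsPullback.of_hasPullback P'.hom Q'.hom).flip.paste_horiz hsqQ
    rw [← hsqP.w, ← hΦ2] at h0
    have h1 : IsPullback Φ (fst P' Q').left (fst P Q).left rP :=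
      IsPullback.of_right h0 hΦ1 (IsPullback.of_hasPullback P.hom Q.hom).flip
    have h2 := h1.paste_vert hsqP
    rwa [show (fst P' Q').left ≫ P'.hom = h' from Over.w (fst P' Q'), show (fst P Q).left ≫ P.hom = ρ from Over.w (fst P Q)] at h2
  haveI : Flat u := inferInstance
  haveI : QuasiCompact u := inferInstance
  haveI : Flat Φ := MorphismProperty.of_isPullback hsq.flip ‹Flat u›
  haveI : Surjective Φ := MorphismProperty.of_isPullback hsq.flip ‹Surjective u›
  haveI : QuasiCompact Φ := MorphismProperty.of_isPullback hsq.flip ‹QuasiCompact u›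
  have hσu : ∀ σ : K ≃ₐ[k] K, Spec.map (CommRingCat.ofHom σ.toAlgHom.toRingHom) ≫ u = u := fun σ => by
    rw [← Spec.map_comp, ← CommRingCat.ofHom_comp]
    exact congrArg (fun m => Spec.map (CommRingCat.ofHom m)) σ.toAlgHom.comp_algebraMap
  -- axes and points
  let eP : 𝟙_ (Over (Spec (CommRingCat.of K))) ⟶ P' := Over.homMk (pullback.lift (u ≫ η[P].left) (𝟙 _) (by
    rw [Category.assoc, show η[P].left ≫ P.hom = 𝟙 S from Over.w η[P], Category.comp_id, Category.id_comp]))
    (pullback.lift_snd _ _ _)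
  let eQ : 𝟙_ (Over (Spec (CommRingCat.of K))) ⟶ Q' := Over.homMk (pullback.lift (u ≫ η[Q].left) (𝟙 _) (by
    rw [Category.assoc, show η[Q].left ≫ Q.hom = 𝟙 S from Over.w η[Q], Category.comp_id, Category.id_comp]))
    (pullback.lift_snd _ _ _)
  have heP : eP.left ≫ rP = u ≫ η[P].left := pullback.lift_fst _ _ _
  have heQ : eQ.left ≫ rQ = u ≫ η[Q].left := pullback.lift_fst _ _ _
  let iP := (lift (𝟙 P) (toUnit P ≫ η[Q])).left
  let iQ := (lift (toUnit Q ≫ η[P]) (𝟙 Q)).left
  let jP := lift (𝟙 P') (toUnit P' ≫ eQ)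
  let jQ := lift (toUnit Q' ≫ eP) (𝟙 Q')
  have hwP : P'.hom ≫ u = rP ≫ P.hom := hsqP.w.symm
  have hwQ : Q'.hom ≫ u = rQ ≫ Q.hom := hsqQ.w.symm
  have hjP : jP.left ≫ Φ = rP ≫ iP := by
    apply pullback.hom_ext
    · change (jP.left ≫ Φ) ≫ (fst P Q).left = (rP ≫ iP) ≫ (fst P Q).left
      rw [Category.assoc, hΦ1, ← Category.assoc, ← Over.comp_left, lift_fst, Category.assoc, ← Over.comp_left, lift_fst,
        Over.id_left, Over.id_left]
      exact (Category.id_comp _).trans (Category.comp_id _).symm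
    · change (jP.left ≫ Φ) ≫ (snd P Q).left = (rP ≫ iP) ≫ (snd P Q).left
      rw [Category.assoc, hΦ2, ← Category.assoc, ← Over.comp_left, lift_snd, Category.assoc, ← Over.comp_left, lift_snd,
        Over.comp_left, Over.comp_left, Category.assoc, heQ]
      exact (Category.assoc _ _ _).symm.trans ((congrArg (· ≫ η[Q].left) hwP).trans (Category.assoc _ _ _))
  have hjQ : jQ.left ≫ Φ = rQ ≫ iQ := by
    apply pullback.hom_ext
    · change (jQ.left ≫ Φ) ≫ (fst P Q).left = (rQ ≫ iQ) ≫ (fst P Q).left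
      rw [Category.assoc, hΦ1, ← Category.assoc, ← Over.comp_left, lift_fst, Category.assoc, ← Over.comp_left, lift_fst,
        Over.comp_left, Over.comp_left, Category.assoc, heP]
      exact (Category.assoc _ _ _).symm.trans ((congrArg (· ≫ η[P].left) hwQ).trans (Category.assoc _ _ _))
    · change (jQ.left ≫ Φ) ≫ (snd P Q).left = (rQ ≫ iQ) ≫ (snd P Q).left
      rw [Category.assoc, hΦ2, ← Category.assoc, ← Over.comp_left, lift_snd, Category.assoc, ← Over.comp_left, lift_snd,
        Over.id_left, Over.id_left]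
      exact (Category.id_comp _).trans (Category.comp_id _).symm
  -- triviality over the closure
  have hdP : pull iP (PicGrp.cls L hL) = 1 := Subtype.ext hP
  have hdQ : pull iQ (PicGrp.cls L hL) = 1 := Subtype.ext hQ
  have hd : pull Φ (PicGrp.cls L hL) = 1 := eq_one_of_axes eP eQ _
    (by rw [pull_pull, hjP, ← pull_pull, hdP, map_one]) (by rw [pull_pull, hjQ, ← pull_pull, hdQ, map_one])
  rw [pull_cls, PicGrp.cls_eq_one_iff] at hd
  let W : Obj.{u} := ⟨Z, L⟩
  have hW : PicF.IsInvertible (md W) := hL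
  obtain ⟨c, hc⟩ := exists_frame_of_iso (W := W) (L := L) rfl Φ hd.some
  obtain ⟨α, hα⟩ := exists_frame_of_iso (W := W) (L := L) rfl iP (PicFam.nonempty_iso_of_cl_eq hP).some
  obtain ⟨β₀, hβ₀⟩ := exists_frame_of_iso (W := W) (L := L) rfl iQ (PicFam.nonempty_iso_of_cl_eq hQ).some
  have hmul : ∀ {T : Scheme.{u}} (a b : Γ(T, ⊤)ˣ) (f : Frame W T), actF a (actF b f) = actF (a * b) f :=
    fun {T} a b f => Subtype.ext (act_mul (X := uObj T) (a : Γ(T, ⊤)) b f.1).symm
  have hpp : ∀ {T₁ T₂ T₃ : Scheme.{u}} (g₁ : T₁ ⟶ T₂) (g₂ : T₂ ⟶ T₃) (f : Frame W T₃),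
      (f.pull g₂).pull g₁ = f.pull (g₁ ≫ g₂) := fun g₁ g₂ f => (pull_comp hW g₁ g₂ f).symm
  have humap : ∀ {T₁ T₂ T₃ : Scheme.{u}} (g₁ : T₁ ⟶ T₂) (g₂ : T₂ ⟶ T₃) (a : Γ(T₃, ⊤)ˣ),
      Units.map g₁.appTop.hom.toMonoidHom (Units.map g₂.appTop.hom.toMonoidHom a) =
        Units.map (g₁ ≫ g₂).appTop.hom.toMonoidHom a := fun g₁ g₂ a => rfl
  have humid : ∀ {T : Scheme.{u}} (g : T ⟶ T) (_ : g = 𝟙 T) (a : Γ(T, ⊤)ˣ),
      Units.map g.appTop.hom.toMonoidHom a = a := by
    rintro T _ rfl a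
    rfl
  -- agreement of the two axes at the origin
  have hoP : η[P] ≫ lift (𝟙 P) (toUnit P ≫ η[Q]) = lift η[P] η[Q] := by
    rw [comp_lift, Category.comp_id, ← Category.assoc, toUnit_unique (η[P] ≫ toUnit P) (𝟙 _), Category.id_comp]
  have hoQ : η[Q] ≫ lift (toUnit Q ≫ η[P]) (𝟙 Q) = lift η[P] η[Q] := by
    rw [comp_lift, Category.comp_id, ← Category.assoc, toUnit_unique (η[Q] ≫ toUnit Q) (𝟙 _), Category.id_comp]
  have hbase0 : (α.pull η[P].left).1.base = (β₀.pull η[Q].left).1.base := by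
    change η[P].left ≫ α.1.base = η[Q].left ≫ β₀.1.base
    rw [hα, hβ₀, ← Over.comp_left, ← Over.comp_left, hoP, hoQ]
  obtain ⟨a₀, ha₀⟩ := exists_actF (β₀.pull η[Q].left) (α.pull η[P].left) hbase0
  obtain ⟨β, hβ, hαβ⟩ : ∃ β : Frame W Q.left, β.1.base = iQ ∧ α.pull η[P].left = β.pull η[Q].left := by
    refine ⟨actF (Units.map Q.hom.appTop.hom.toMonoidHom a₀) β₀, hβ₀, ?_⟩
    rw [pull_actF, ha₀]
    congr 1
    exact ((humap η[Q].left Q.hom a₀).trans (humid _ (Over.w η[Q]) a₀)).symm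
  -- normalisation along the first axis
  have hbP : (c.pull jP.left).1.base = (α.pull rP).1.base := by
    change jP.left ≫ c.1.base = rP ≫ α.1.base
    rw [hc, hα, hjP]
  obtain ⟨w, hw⟩ := exists_actF (α.pull rP) (c.pull jP.left) hbP
  obtain ⟨c₁, hc₁, hc₁P⟩ : ∃ c₁ : Frame W Z', c₁.1.base = Φ ∧ c₁.pull jP.left = α.pull rP := by
    refine ⟨actF (Units.map (fst P' Q').left.appTop.hom.toMonoidHom w⁻¹) c, hc, ?_⟩
    rw [pull_actF, hw, hmul, humap, humid _ (by rw [← Over.comp_left, lift_fst]; rfl), inv_mul_cancel, actF_one]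
  -- normalisation along the second axis
  have hbQ : (c₁.pull jQ.left).1.base = (β.pull rQ).1.base := by
    change jQ.left ≫ c₁.1.base = rQ ≫ β.1.base
    rw [hc₁, hβ, hjQ]
  obtain ⟨v, hv⟩ := exists_actF (β.pull rQ) (c₁.pull jQ.left) hbQ
  have hoo : eQ ≫ jQ = eP ≫ jP := by
    rw [comp_lift, comp_lift, Category.comp_id, Category.comp_id, ← Category.assoc, ← Category.assoc,
      toUnit_unique (eQ ≫ toUnit Q') (𝟙 _), toUnit_unique (eP ≫ toUnit P') (𝟙 _), Category.id_comp, Category.id_comp]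
  have hv1 : Units.map eQ.left.appTop.hom.toMonoidHom v = 1 := by
    refine actF_inj (c := (β.pull rQ).pull eQ.left) ?_
    rw [actF_one, ← pull_actF, ← hv, hpp, ← Over.comp_left, hoo, Over.comp_left, ← hpp, hc₁P, hpp, hpp, heP, heQ,
      ← hpp, ← hpp, hαβ]
  obtain ⟨c₂, hc₂, hc₂P, hc₂Q⟩ : ∃ c₂ : Frame W Z', c₂.1.base = Φ ∧ c₂.pull jP.left = α.pull rP ∧
      c₂.pull jQ.left = β.pull rQ := by
    refine ⟨actF (Units.map (snd P' Q').left.appTop.hom.toMonoidHom v⁻¹) c₁, hc₁, ?_, ?_⟩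
    · rw [pull_actF, hc₁P, humap, ← Over.comp_left, lift_snd, Over.comp_left, ← humap, map_inv, hv1, inv_one, map_one,
        actF_one]
    · rw [pull_actF, hv, hmul, humap, humid _ (by rw [← Over.comp_left, lift_snd]; rfl), inv_mul_cancel, actF_one]
  -- Galois invariance
  let sg : ∀ σ : K ≃ₐ[k] K, Spec (CommRingCat.of K) ⟶ Spec (CommRingCat.of K) := fun σ =>
    Spec.map (CommRingCat.ofHom σ.toAlgHom.toRingHom)
  let s : ∀ σ : K ≃ₐ[k] K, Z' ⟶ Z' := fun σ => hsq.lift Φ (h' ≫ sg σ) (by rw [Category.assoc, hσu, hsq.w])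
  have hsΦ : ∀ σ, s σ ≫ Φ = Φ := fun σ => hsq.lift_fst _ _ _
  have hsh : ∀ σ, s σ ≫ h' = h' ≫ sg σ := fun σ => hsq.lift_snd _ _ _
  have hinv : ∀ σ, c₂.pull (s σ) = c₂ := by
    intro σ
    have hb : (c₂.pull (s σ)).1.base = c₂.1.base := by
      change s σ ≫ c₂.1.base = c₂.1.base
      rw [hc₂, hsΦ]
    obtain ⟨a, ha⟩ := exists_actF c₂ (c₂.pull (s σ)) hb
    let σP : P'.left ⟶ P'.left := hsqP.lift rP (P'.hom ≫ sg σ) (by rw [Category.assoc, hσu, hsqP.w])
    let σQ : Q'.left ⟶ Q'.left := hsqQ.lift rQ (Q'.hom ≫ sg σ) (by rw [Category.assoc, hσu, hsqQ.w])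
    have hP1 : jP.left ≫ s σ = σP ≫ jP.left := by
      refine hsq.hom_ext ?_ ?_
      · rw [Category.assoc, Category.assoc, hsΦ, hjP, ← Category.assoc σP, IsPullback.lift_fst]
      · rw [Category.assoc, Category.assoc, hsh, ← Category.assoc jP.left, show jP.left ≫ h' = P'.hom from Over.w jP,
          IsPullback.lift_snd]
    have hQ1 : jQ.left ≫ s σ = σQ ≫ jQ.left := by
      refine hsq.hom_ext ?_ ?_
      · rw [Category.assoc, Category.assoc, hsΦ, hjQ, ← Category.assoc σQ, IsPullback.lift_fst]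
      · rw [Category.assoc, Category.assoc, hsh, ← Category.assoc jQ.left, show jQ.left ≫ h' = Q'.hom from Over.w jQ,
          IsPullback.lift_snd]
    have haP : Units.map jP.left.appTop.hom.toMonoidHom a = 1 := by
      refine actF_inj (c := c₂.pull jP.left) ?_
      rw [actF_one, ← pull_actF, ← ha, hpp, hP1, ← hpp, hc₂P, hpp, IsPullback.lift_fst]
    have haQ : Units.map jQ.left.appTop.hom.toMonoidHom a = 1 := by
      refine actF_inj (c := c₂.pull jQ.left) ?_
      rw [actF_one, ← pull_actF, ← ha, hpp, hQ1, ← hpp, hc₂Q, hpp, IsPullback.lift_fst]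
    rw [ha, unit_eq_one_of_axes eP eQ a haP haQ, actF_one]
  -- equality on the double base change
  let p₁ := pullback.fst Φ Φ
  let p₂ := pullback.snd Φ Φ
  let q₀ : pullback Φ Φ ⟶ pullback u u := pullback.lift (p₁ ≫ h') (p₂ ≫ h') (by
    rw [Category.assoc, Category.assoc, ← hsq.w, reassoc_of% (pullback.condition (f := Φ) (g := Φ))])
  let q := q₀ ≫ (pullbackSpecIso k K K).hom
  have hsq₀ : IsPullback p₁ q₀ h' (pullback.fst u u) := by
    have h0 := (IsPullback.of_hasPullback Φ Φ).paste_vert hsq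
    rw [← show q₀ ≫ pullback.snd u u = p₂ ≫ h' from pullback.lift_snd _ _ _, hsq.w] at h0
    exact IsPullback.of_bot h0 (pullback.lift_fst _ _ _).symm (IsPullback.of_hasPullback u u)
  have hsqW : IsPullback (p₁ ≫ Φ) q ρ (Spec.map (CommRingCat.ofHom (algebraMap k (K ⊗[k] K)))) := by
    refine IsPullback.of_iso (hsq₀.paste_horiz hsq) (Iso.refl _) (Iso.refl _) (pullbackSpecIso k K K) (Iso.refl _)
      (by simp) (by simp [q]) (by simp) ?_
    rw [show CommRingCat.ofHom (algebraMap k (K ⊗[k] K)) = CommRingCat.ofHom (algebraMap k K) ≫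
      CommRingCat.ofHom Algebra.TensorProduct.includeLeftRingHom from rfl, Spec.map_comp]
    simp only [Iso.refl_hom, Category.comp_id]
    exact (pullbackSpecIso_hom_fst_assoc k K K _).symm
  let ψ : (σ : K ≃ₐ[k] K) → K ⊗[k] K →ₐ[k] K := fun σ =>
    Algebra.TensorProduct.lift (AlgHom.id k K) σ.toAlgHom (fun a b => Commute.all _ _)
  let t : (σ : K ≃ₐ[k] K) → Z' ⟶ pullback Φ Φ := fun σ => pullback.lift (𝟙 _) (s σ) (by rw [hsΦ, Category.id_comp])
  have ht1 : ∀ σ, t σ ≫ p₁ = 𝟙 _ := fun σ => pullback.lift_fst _ _ _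
  have ht2 : ∀ σ, t σ ≫ p₂ = s σ := fun σ => pullback.lift_snd _ _ _
  have htq : ∀ σ, t σ ≫ q = h' ≫ Spec.map (CommRingCat.ofHom (ψ σ).toRingHom) := by
    intro σ
    rw [← cancel_mono (pullbackSpecIso k K K).inv]
    refine pullback.hom_ext ?_ ?_
    · simp only [q, Category.assoc, Iso.hom_inv_id_assoc, pullbackSpecIso_inv_fst, pullbackSpecIso_hom_fst, ← Spec.map_comp]
      rw [show t σ ≫ q₀ ≫ pullback.fst u u = h' from by
        rw [pullback.lift_fst, reassoc_of% (ht1 σ)]]
      conv_lhs => rw [← Category.comp_id h']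
      rw [← Spec.map_id]
      refine congrArg (fun m => h' ≫ Spec.map m) ?_
      ext a
      simp [ψ]
    · simp only [q, Category.assoc, Iso.hom_inv_id_assoc, pullbackSpecIso_inv_snd, pullbackSpecIso_hom_snd, ← Spec.map_comp]
      rw [show t σ ≫ q₀ ≫ pullback.snd u u = h' ≫ sg σ from by
        rw [pullback.lift_snd, reassoc_of% (ht2 σ), hsh]]
      refine congrArg (fun m => h' ≫ Spec.map m) ?_
      ext a
      simp [ψ]
  have hpull : c₂.pull p₁ = c₂.pull p₂ := by
    have hb : (c₂.pull p₂).1.base = (c₂.pull p₁).1.base := by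
      change p₂ ≫ c₂.1.base = p₁ ≫ c₂.1.base
      rw [hc₂]
      exact pullback.condition.symm
    obtain ⟨a, ha⟩ := exists_actF (c₂.pull p₁) (c₂.pull p₂) hb
    have hta : ∀ σ, Units.map (t σ).appTop.hom.toMonoidHom a = 1 := by
      intro σ
      refine actF_inj (c := c₂) ?_
      have h := congrArg (Frame.pull (t σ)) ha
      rw [pull_actF, hpp, hpp, ht1, ht2, hinv, pull_id hW] at h
      rw [actF_one, ← h]
    have h0 : (a : Γ(pullback Φ Φ, ⊤)) - 1 = 0 := by
      refine appTop_eq_zero_of_family hsqW ψ (fun z hz => galois_pairs_injective k K z hz) t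
        (qT := fun _ => h') (fun σ => by rw [reassoc_of% (ht1 σ)]; exact hsq) htq _ fun σ => ?_
      rw [map_sub, map_one, show (t σ).appTop (a : Γ(pullback Φ Φ, ⊤)) = 1 from congrArg Units.val (hta σ), sub_self]
    rw [ha, show a = 1 from Units.ext (sub_eq_zero.1 h0), actF_one]
  -- descent
  let φ : uObj Z' ⟶ uObj Z := uMap Φ
  haveI : IsIso (fib φ) := isIso_fib_uMap Φ
  haveI : Flat φ.base := ‹Flat Φ›
  haveI : Surjective φ.base := ‹Surjective Φ›
  haveI : QuasiCompact φ.base := ‹QuasiCompact Φ›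
  haveI := c₂.2
  obtain ⟨⟨b, f⟩, hb, hf, -⟩ := exists_descHom φ (uMap p₁) (uMap p₂) (IsPullback.of_hasPullback Φ Φ)
    (by rw [uMap_comp, uMap_comp]; exact congrArg uMap pullback.condition)
    (PicLoc.isInvertible_structureModule Z) (W := W) hW c₂.1 (𝟙 Z)
    ((Category.comp_id _).trans hc₂.symm) (congrArg Subtype.val hpull)
  obtain rfl : b = 𝟙 Z := hb
  haveI : IsIso (f : Coh.structureModule Z ⟶ (Scheme.Modules.pullback (𝟙 Z)).obj L) := hf
  exact Quot.sound ⟨((Scheme.Modules.pullbackId Z).app L).symm ≪≫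
    (asIso (f : Coh.structureModule Z ⟶ (Scheme.Modules.pullback (𝟙 Z)).obj L)).symm⟩

end Groth.Agent.PicAxes
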